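import Groth.Agent.Hensel.Lift
import Groth.Prelude.Def_EssEt
import Mathlib.RingTheory.Etale.Basic

/-!
# Maps out of essentially etale local algebras
-/

set_option autoImplicit false
set_option linter.style.haveILetI false

universe u

open IsLocalRing TensorProduct

namespace Groth.Agent.EssEtLift

section unique

variable {A A₁ B : Type u} [CommRing A] [IsLocalRing A] [CommRing A₁] [IsLocalRing A₁] [Algebra A A₁]
  [CommRing B] [IsLocalRing B] [Algebra A B]

theorem algHom_ext (h₁ : EGA4loc.IsEssentiallyEtale A A₁) {f g : A₁ →ₐ[A] B}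
    (h : ∀ x, residue B (f x) = residue B (g x)) : f = g := by
  obtain ⟨C, _, _, q, _, _, -, ⟨e⟩⟩ := h₁
  have key : f.comp e.symm.toAlgHom = g.comp e.symm.toAlgHom := by
    refine IsLocalization.algHom_ext q.primeCompl ?_
    exact Hensel.algHom_unique (I := maximalIdeal B) (jacobson_eq_maximalIdeal (⊥ : Ideal B) bot_ne_top).ge
      fun x => Ideal.Quotient.eq.1 (h _)
  refine AlgHom.ext fun x => ?_
  obtain ⟨z, rfl⟩ := e.symm.surjective x
  exact AlgHom.congr_fun key z

end unique

variable {A A' : Type u} [CommRing A] [IsLocalRing A] [CommRing A'] [IsLocalRing A'] [Algebra A A']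
  [IsLocalHom (algebraMap A A')]

theorem existsUnique_lift (hA' : EGA4loc.IsEssentiallyEtale A A') (B : Type u) [CommRing B]
    [HenselianLocalRing B] (ψ : A →+* B) [IsLocalHom ψ]
    (α : ResidueField A' →+* ResidueField B)
    (hα : α.comp (ResidueField.map (algebraMap A A')) = ResidueField.map ψ) :
    ∃! ψ' : A' →+* B, IsLocalHom ψ' ∧ ψ'.comp (algebraMap A A') = ψ ∧
      ∀ x : A', residue B (ψ' x) = α (residue A' x) := by
  letI : Algebra A B := ψ.toAlgebra
  have hA'' := hA'
  obtain ⟨C, _, _, q, _, _, -, ⟨e⟩⟩ := hA'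
  let η : C →ₐ[A] A' := e.symm.toAlgHom.comp (IsScalarTower.toAlgHom A C (Localization.AtPrime q))
  let σ : C →ₐ[A] B ⧸ maximalIdeal B :=
    { toRingHom := (α.comp (residue A')).comp η.toRingHom
      commutes' := fun a => by
        show α (residue A' (η (algebraMap A C a))) = residue B (ψ a)
        rw [η.commutes, ← ResidueField.map_residue ψ a, ← hα]
        rfl }
  obtain ⟨t, ht⟩ := (Hensel.bijective_comp_mk (R := A) (E := C) (A := B) (I := maximalIdeal B)).2 σ
  have ht' : ∀ c, residue B (t c) = α (residue A' (η c)) := fun c => AlgHom.congr_fun ht c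
  have hu : ∀ s : q.primeCompl, IsUnit (t s) := fun s => by
    rw [← residue_ne_zero_iff_isUnit, ht', map_ne_zero, residue_ne_zero_iff_isUnit]
    exact (IsLocalization.map_units (Localization.AtPrime q) s).map e.symm
  let L : Localization.AtPrime q →ₐ[A] B := IsLocalization.liftAlgHom (M := q.primeCompl) (f := t) hu
  let ψ' : A' →ₐ[A] B := L.comp e.toAlgHom
  have hres : ∀ x, residue B (ψ' x) = α (residue A' x) := by
    have h : ((residue B).comp ψ'.toRingHom).comp e.symm.toRingEquiv.toRingHom =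
        (α.comp (residue A')).comp e.symm.toRingEquiv.toRingHom := by
      refine IsLocalization.ringHom_ext q.primeCompl (RingHom.ext fun c => ?_)
      show residue B (L (e (e.symm (algebraMap C _ c)))) = α (residue A' (η c))
      rw [e.apply_symm_apply, ← ht' c]
      exact congrArg (residue B) (IsLocalization.lift_eq _ c)
    intro x
    obtain ⟨z, rfl⟩ := e.symm.surjective x
    exact RingHom.congr_fun h z
  refine ⟨ψ'.toRingHom, ⟨⟨fun x hx => ?_⟩, RingHom.ext ψ'.commutes, hres⟩, fun χ ⟨_, hχc, hχr⟩ => ?_⟩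
  · rw [← residue_ne_zero_iff_isUnit] at hx ⊢
    intro h0
    exact hx ((hres x).trans (by rw [h0, map_zero]))
  · let χ' : A' →ₐ[A] B := { toRingHom := χ, commutes' := RingHom.congr_fun hχc }
    exact congrArg AlgHom.toRingHom
      (algHom_ext hA'' (f := χ') (g := ψ') fun x => (hχr x).trans (hres x).symm)

theorem existsUnique_lift_strict (hA' : EGA4loc.IsStrictlyEssentiallyEtale A A') (B : Type u)
    [CommRing B] [HenselianLocalRing B] (ψ : A →+* B) [IsLocalHom ψ] :
    ∃! ψ' : A' →+* B, IsLocalHom ψ' ∧ ψ'.comp (algebraMap A A') = ψ := by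
  let E := RingEquiv.ofBijective _ hA'.2
  let α : ResidueField A' →+* ResidueField B := (ResidueField.map ψ).comp E.symm.toRingHom
  have hα : α.comp (ResidueField.map (algebraMap A A')) = ResidueField.map ψ :=
    RingHom.ext fun x => congrArg (ResidueField.map ψ) (E.symm_apply_apply x)
  obtain ⟨ψ', ⟨h1, h2, h3⟩, hu⟩ := existsUnique_lift hA'.1 B ψ α hα
  refine ⟨ψ', ⟨h1, h2⟩, fun χ ⟨hl, hc⟩ => hu χ ⟨hl, hc, fun x => ?_⟩⟩
  obtain ⟨y, hy⟩ := hA'.2.2 (residue A' x)
  obtain ⟨a, rfl⟩ := residue_surjective y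
  haveI := hl
  rw [← ResidueField.map_residue χ x, ← hy, ResidueField.map_residue, ResidueField.map_residue,
    ← RingHom.comp_apply χ, hc, ← ResidueField.map_residue ψ a]
  exact congrArg (ResidueField.map ψ) (E.symm_apply_apply (residue A a)).symm

omit [IsLocalHom (algebraMap A A')] in
theorem exists_point {C : Type u} [CommRing C] [Algebra A C] [IsLocalHom (algebraMap A A')]
    (h : Function.Bijective (ResidueField.map (algebraMap A A'))) (η : C →ₐ[A] A') :
    ∃ ε : C →ₐ[A] ResidueField A, ∀ c, ε c = 0 ↔ η c ∈ maximalIdeal A' := by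
  let E := RingEquiv.ofBijective _ h
  refine ⟨{ toRingHom := E.symm.toRingHom.comp ((residue A').comp η.toRingHom)
            commutes' := fun a => ?_ }, fun c => ?_⟩
  · show E.symm (residue A' (η (algebraMap A C a))) = residue A a
    rw [η.commutes, RingEquiv.symm_apply_eq]
    exact (ResidueField.map_residue (algebraMap A A') a).symm
  · exact (map_eq_zero_iff E.symm E.symm.injective).trans (residue_eq_zero_iff _)

theorem exists_dominating {A₁ A₂ : Type u} [CommRing A₁] [IsLocalRing A₁] [Algebra A A₁]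
    [IsLocalHom (algebraMap A A₁)] [CommRing A₂] [IsLocalRing A₂] [Algebra A A₂]
    [IsLocalHom (algebraMap A A₂)] (h₁ : EGA4loc.IsStrictlyEssentiallyEtale A A₁)
    (h₂ : EGA4loc.IsStrictlyEssentiallyEtale A A₂) :
    ∃ (A₃ : Type u) (_ : CommRing A₃) (_ : IsLocalRing A₃) (_ : Algebra A A₃)
      (_ : IsLocalHom (algebraMap A A₃)),
      EGA4loc.IsStrictlyEssentiallyEtale A A₃ ∧ Nonempty (A₁ →ₐ[A] A₃) ∧ Nonempty (A₂ →ₐ[A] A₃) := by
  obtain ⟨⟨C₁, _, _, q₁, _, _, -, ⟨e₁⟩⟩, hb₁⟩ := h₁
  obtain ⟨⟨C₂, _, _, q₂, _, _, -, ⟨e₂⟩⟩, hb₂⟩ := h₂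
  obtain ⟨ε₁, hε₁⟩ := exists_point hb₁
    (e₁.symm.toAlgHom.comp (IsScalarTower.toAlgHom A C₁ (Localization.AtPrime q₁)))
  obtain ⟨ε₂, hε₂⟩ := exists_point hb₂
    (e₂.symm.toAlgHom.comp (IsScalarTower.toAlgHom A C₂ (Localization.AtPrime q₂)))
  let ε : C₁ ⊗[A] C₂ →ₐ[A] ResidueField A :=
    Algebra.TensorProduct.lift ε₁ ε₂ fun _ _ => Commute.all _ _
  let q : Ideal (C₁ ⊗[A] C₂) := RingHom.ker ε.toRingHom
  haveI : q.IsPrime := RingHom.ker_isPrime _
  have hq : q.comap (algebraMap A (C₁ ⊗[A] C₂)) = maximalIdeal A := by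
    ext a
    show ε (algebraMap A _ a) = 0 ↔ _
    rw [ε.commutes, ResidueField.algebraMap_eq, residue_eq_zero_iff]
  let A₃ := Localization.AtPrime q
  haveI hloc : IsLocalHom (algebraMap A A₃) := ⟨fun a ha => by
    rw [IsScalarTower.algebraMap_apply A (C₁ ⊗[A] C₂) A₃,
      IsLocalization.AtPrime.isUnit_to_map_iff A₃ q] at ha
    exact notMem_maximalIdeal.mp fun hm => ha (hq.ge hm)⟩
  haveI : Algebra.Etale A (C₁ ⊗[A] C₂) := Algebra.Etale.comp A C₁ _
  have hsurj : Function.Surjective (ResidueField.map (algebraMap A A₃)) := by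
    intro z
    obtain ⟨w, rfl⟩ := residue_surjective z
    obtain ⟨c, s, rfl⟩ := IsLocalization.exists_mk'_eq q.primeCompl w
    have hc : ∀ c : C₁ ⊗[A] C₂, ∃ a, residue A₃ (algebraMap _ A₃ c) =
        ResidueField.map (algebraMap A A₃) (residue A a) := fun c => by
      obtain ⟨a, ha⟩ := residue_surjective (ε c)
      refine ⟨a, ?_⟩
      rw [ResidueField.map_residue]
      refine sub_eq_zero.mp ?_
      rw [← map_sub, IsScalarTower.algebraMap_apply A (C₁ ⊗[A] C₂) A₃, ← map_sub, residue_eq_zero_iff]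
      refine (IsLocalization.AtPrime.to_map_mem_maximal_iff A₃ q _).mpr ?_
      show ε (c - algebraMap A _ a) = 0
      rw [map_sub, ε.commutes, ← ha, ResidueField.algebraMap_eq, sub_self]
    obtain ⟨a, ha⟩ := hc c
    obtain ⟨b, hb⟩ := hc s
    refine ⟨residue A a / residue A b, ?_⟩
    have hs0 : residue A₃ (algebraMap _ A₃ (s : C₁ ⊗[A] C₂)) ≠ 0 := by
      rw [residue_ne_zero_iff_isUnit]
      exact IsLocalization.map_units A₃ s
    rw [map_div₀, ← ha, ← hb, div_eq_iff hs0, ← map_mul, IsLocalization.mk'_spec]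
  refine ⟨A₃, inferInstance, inferInstance, inferInstance, hloc,
    ⟨⟨C₁ ⊗[A] C₂, inferInstance, inferInstance, q, inferInstance, inferInstance, hq, ⟨AlgEquiv.refl⟩⟩,
      (ResidueField.map (algebraMap A A₃)).injective, hsurj⟩, ?_, ?_⟩
  · refine ⟨(IsLocalization.liftAlgHom (M := q₁.primeCompl) (f := (IsScalarTower.toAlgHom A _ A₃).comp
      (Algebra.TensorProduct.includeLeft : C₁ →ₐ[A] C₁ ⊗[A] C₂)) fun s => ?_).comp e₁.toAlgHom⟩
    refine (IsLocalization.AtPrime.isUnit_to_map_iff A₃ q _).mpr fun hm => ?_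
    have h0 : ε₁ (s : C₁) = 0 := by
      simpa [ε, q] using hm
    rw [hε₁, mem_maximalIdeal, mem_nonunits_iff] at h0
    exact h0 ((IsLocalization.map_units (Localization.AtPrime q₁) s).map e₁.symm)
  · refine ⟨(IsLocalization.liftAlgHom (M := q₂.primeCompl) (f := (IsScalarTower.toAlgHom A _ A₃).comp
      (Algebra.TensorProduct.includeRight : C₂ →ₐ[A] C₁ ⊗[A] C₂)) fun s => ?_).comp e₂.toAlgHom⟩
    refine (IsLocalization.AtPrime.isUnit_to_map_iff A₃ q _).mpr fun hm => ?_
    have h0 : ε₂ (s : C₂) = 0 := by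
      simpa [ε, q] using hm
    rw [hε₂, mem_maximalIdeal, mem_nonunits_iff] at h0
    exact h0 ((IsLocalization.map_units (Localization.AtPrime q₂) s).map e₂.symm)

end Groth.Agent.EssEtLift
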